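import Mathlib.GroupTheory.Sylow
import Mathlib.GroupTheory.SpecificGroups.Cyclic
import Mathlib.GroupTheory.PGroup

/-!
# A commutator of order `p` central in its arguments (helper250, piece (X) of S3046)

* `exists_pair` : in a nonabelian Sylow `p`-subgroup there are `X`, `Y` whose commutator `Z` has order `p` and commutes
  with `X` and `Y`;
* `exists_pair_lift` : the same upstairs, from a quotient.
-/

set_option autoImplicit false

namespace Cfsg.Agent.H250.LP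

open Subgroup

variable {G : Type*} [Group G] {p : ℕ} [hp : Fact p.Prime]

theorem exists_pair_pgroup [Finite G] (hG : IsPGroup p G) (hn : ∃ a b : G, a * b ≠ b * a) :
    ∃ X Y Z : G, X * Y * X⁻¹ * Y⁻¹ = Z ∧ X * Z = Z * X ∧ Y * Z = Z * Y ∧ Z ^ p = 1 ∧ Z ≠ 1 := by
  obtain ⟨a, b, hab⟩ := hn
  have hC : a ∉ center G := fun h => hab ((mem_center_iff.1 h b).symm)
  have hnt : Nontrivial (G ⧸ center G) := by
    refine ⟨⟨(a : G ⧸ center G), 1, fun h => hC ((QuotientGroup.eq_one_iff _).1 h)⟩⟩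
  have hQ : IsPGroup p (G ⧸ center G) := hG.to_quotient _
  have hZ := hQ.center_nontrivial
  obtain ⟨⟨y', hy'⟩, hy1⟩ := exists_ne (1 : center (G ⧸ center G))
  obtain ⟨y, rfl⟩ := QuotientGroup.mk_surjective y'
  have hyC : y ∉ center G := by
    intro h
    apply hy1
    apply Subtype.ext
    exact (QuotientGroup.eq_one_iff _).2 h
  have hx : ∃ x : G, x * y ≠ y * x := by
    by_contra h
    push Not at h
    exact hyC (mem_center_iff.2 fun x => h x)
  obtain ⟨x, hxy⟩ := hx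
  have hc : x * y * x⁻¹ * y⁻¹ ∈ center G := by
    rw [← QuotientGroup.eq_one_iff]
    have h1 := mem_center_iff.1 hy' (x : G ⧸ center G)
    rw [QuotientGroup.mk_mul, QuotientGroup.mk_mul, QuotientGroup.mk_mul, QuotientGroup.mk_inv, QuotientGroup.mk_inv, h1]
    group
  set c := x * y * x⁻¹ * y⁻¹ with hcdef
  have hc1 : c ≠ 1 := by
    intro h
    apply hxy
    rw [hcdef, mul_inv_eq_one, mul_inv_eq_iff_eq_mul] at h
    exact h
  obtain ⟨k, hk⟩ := (IsPGroup.iff_orderOf.1 hG) c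
  have hk0 : k ≠ 0 := by
    rintro rfl
    rw [pow_zero, orderOf_eq_one_iff] at hk
    exact hc1 hk
  obtain ⟨m, rfl⟩ := Nat.exists_eq_succ_of_ne_zero hk0
  have hcy : x * y * x⁻¹ = c * y := by rw [hcdef]; group
  have hcomm : Commute c y := (mem_center_iff.1 hc y).symm
  have hpow : x * y ^ p ^ m * x⁻¹ = c ^ p ^ m * y ^ p ^ m := by
    rw [← conj_pow, hcy, hcomm.mul_pow]
  have hcen : ∀ g : G, g * c ^ p ^ m = c ^ p ^ m * g := fun g => mem_center_iff.1 (pow_mem hc _) g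
  refine ⟨x, y ^ p ^ m, c ^ p ^ m, ?_, hcen _, hcen _, ?_, ?_⟩
  · rw [hpow, mul_inv_cancel_right]
  · rw [← pow_mul, ← pow_succ, ← hk, pow_orderOf_eq_one]
  · intro h
    have h1 := orderOf_dvd_of_pow_eq_one h
    rw [hk] at h1
    have h2 := (Nat.pow_dvd_pow_iff_le_right hp.out.one_lt).1 h1
    omega

theorem exists_pair [Finite G] (P : Sylow p G) (hn : ¬ IsMulCommutative ↥(P : Subgroup G)) :
    ∃ X Y Z : G, X * Y * X⁻¹ * Y⁻¹ = Z ∧ X * Z = Z * X ∧ Y * Z = Z * Y ∧ Z ^ p = 1 ∧ Z ≠ 1 := by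
  have h1 : ∃ a b : ↥(P : Subgroup G), a * b ≠ b * a := by
    by_contra h
    push Not at h
    exact hn ⟨⟨fun a b => h a b⟩⟩
  obtain ⟨X, Y, Z, h2, h3, h4, h5, h6⟩ := exists_pair_pgroup P.isPGroup' h1
  refine ⟨X, Y, Z, ?_, ?_, ?_, ?_, ?_⟩
  · rw [← h2]; rfl
  · exact congrArg Subtype.val h3
  · exact congrArg Subtype.val h4
  · exact congrArg Subtype.val h5
  · intro h
    exact h6 (Subtype.ext h)

theorem exists_pair_lift [Finite G] {K : Type*} [Group K] [Finite K] (π : G →* K) (hπ : Function.Surjective π)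
    (hna : ∀ S : Sylow p K, ¬ IsMulCommutative ↥(S : Subgroup K)) :
    ∃ X Y Z : G, X * Y * X⁻¹ * Y⁻¹ = Z ∧ X * Z = Z * X ∧ Y * Z = Z * Y ∧ Z ^ p = 1 ∧ Z ≠ 1 := by
  obtain ⟨P⟩ : Nonempty (Sylow p G) := inferInstance
  refine exists_pair P fun hc => hna (P.mapSurjective hπ) ?_
  refine ⟨⟨?_⟩⟩
  rintro ⟨a, ha⟩ ⟨b, hb⟩
  rw [Sylow.coe_mapSurjective] at ha hb
  obtain ⟨a, ha', rfl⟩ := ha
  obtain ⟨b, hb', rfl⟩ := hb
  have h1 := congrArg Subtype.val (hc.is_comm.comm ⟨a, ha'⟩ ⟨b, hb'⟩)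
  apply Subtype.ext
  change π a * π b = π b * π a
  rw [← map_mul, ← map_mul]
  exact congrArg π h1

end Cfsg.Agent.H250.LP
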