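import Cfsg.Agent.H236.LocLin
import Cfsg.Agent.H236.Rows
import Cfsg.Agent.H238.Base
import Cfsg.Agent.H996.AllSplit
import Cfsg.Agent.H328.NLRank
import Cfsg.Agent.H250.LP.Pair

/-!
# `PSL_n(q)` is not of local characteristic `p`, `p` odd, `p ∤ q`, nonabelian Sylow subgroup, rank at least 3 (helper250)

Piece (X) of S3046.
-/

set_option autoImplicit false
set_option linter.unusedSectionVars false

namespace Cfsg.Agent.H250.LP

open Subgroup Cfsg Cfsg.Agent.BpLin Matrix Cfsg.Agent.H236
open Cfsg.Agent.H238 (Loc)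
open Cfsg.Agent.H674.SUBlock (blk blk_one blk_mul det_blk blk_inj blk_castAdd blk_natAdd)

universe u v

theorem ws_of_loc {K : Type u} [Group K] [Finite K] [IsSimpleGroup K] {p r : ℕ} [Fact p.Prime] [hr : Fact r.Prime]
    (hpr : p ≠ r) (hK : IsLieTypeChar r K) (hl : Loc p K) {K' : Type v} [Group K'] (e : K ≃* K') {x : K'}
    (hx : orderOf x = p) : WS r ↥(centralizer ({x} : Set K')) := by
  have h1 : orderOf (e.symm x) = p := by
    rw [← hx]
    exact orderOf_injective e.symm.toMonoidHom e.symm.injective x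
  have h2 := (rs_centralizer hpr (H996.AllSplit.hasSplit_of_lie hr.out hK) (e.symm x)
    (by rw [← h1, pow_orderOf_eq_one]) (hl _ h1)).ws
  have h3 := ws_equiv e h2
  rwa [e.apply_symm_apply] at h3

theorem na_congr {K : Type*} {K' : Type*} [Group K] [Group K'] [Finite K] {p : ℕ} [Fact p.Prime] (e : K ≃* K')
    (hna : ∀ S : Sylow p K, ¬ IsMulCommutative ↥(S : Subgroup K)) (S : Sylow p K') :
    ¬ IsMulCommutative ↥(S : Subgroup K') := by
  have : Finite K' := Finite.of_equiv K e.toEquiv
  intro hc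
  have hs : Function.Surjective e.symm.toMonoidHom := fun x => e.symm.surjective x
  refine hna (S.mapSurjective hs) ⟨⟨?_⟩⟩
  rintro ⟨a, ha⟩ ⟨b, hb⟩
  rw [Sylow.coe_mapSurjective] at ha hb
  obtain ⟨a, ha', rfl⟩ := ha
  obtain ⟨b, hb', rfl⟩ := hb
  have h1 := congrArg Subtype.val (hc.is_comm.comm ⟨a, ha'⟩ ⟨b, hb'⟩)
  apply Subtype.ext
  change e.symm a * e.symm b = e.symm b * e.symm a
  rw [← map_mul, ← map_mul]
  exact congrArg e.symm h1

section SL

variable {F : Type u} [Field F] {d k : ℕ}

/-- `SL_d → SL_{d+k}` -/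
def extSL : Matrix.SpecialLinearGroup (Fin d) F →* Matrix.SpecialLinearGroup (Fin (d + k)) F where
  toFun x := ⟨blk x.1 (1 : Matrix (Fin k) (Fin k) F), by rw [det_blk, x.2, Matrix.det_one, one_mul]⟩
  map_one' := Subtype.ext blk_one
  map_mul' x y := Subtype.ext (by
    change blk (x.1 * y.1) 1 = blk x.1 1 * blk y.1 1
    rw [← blk_mul, one_mul])

theorem extSL_injective : Function.Injective
    (extSL : Matrix.SpecialLinearGroup (Fin d) F →* Matrix.SpecialLinearGroup (Fin (d + k)) F) := by
  intro x y h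
  exact Subtype.ext (blk_inj (congrArg Subtype.val h)).1

theorem not_ws_blk [Finite F] {r : ℕ} [Fact r.Prime] [CharP F r] (hd : 2 ≤ d) (h4 : d = 2 → 4 ≤ Nat.card F) {a : F}
    {B : Matrix (Fin k) (Fin k) F} {Z : Matrix.SpecialLinearGroup (Fin (d + k)) F} (hZ : Z.1 = blk (a • 1) B) :
    ¬ WS r ↥(centralizer ({Z} : Set (Matrix.SpecialLinearGroup (Fin (d + k)) F))) := by
  intro h
  have hc : ∀ x : Matrix.SpecialLinearGroup (Fin d) F,
      (extSL x : Matrix.SpecialLinearGroup (Fin (d + k)) F) ∈ centralizer ({Z} : Set (Matrix.SpecialLinearGroup (Fin (d + k)) F)) := by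
    intro x
    rw [mem_centralizer_singleton_iff]
    apply Subtype.ext
    change blk x.1 1 * Z.1 = Z.1 * blk x.1 1
    rw [hZ, ← blk_mul, ← blk_mul, one_mul, mul_one, mul_smul_comm, smul_mul_assoc, one_mul, mul_one]
  refine not_ws_sl (F := F) (r := r) hd h4 (h.of_injective (extSL.codRestrict _ hc) ?_)
  intro x y hxy
  exact extSL_injective (congrArg Subtype.val hxy)

end SL

/-- **`PSL_n(q)`.** -/
theorem not_loc_psl {K : Type u} [Group K] [Finite K] [IsSimpleGroup K] {p r : ℕ} [hp : Fact p.Prime]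
    [hr : Fact r.Prime] (hp2 : p ≠ 2) (hpr : p ≠ r) (hK : IsPSLChar r K) (hrk : PRankAtLeast p 3 K)
    (hna : ∀ S : Sylow p K, ¬ IsMulCommutative ↥(S : Subgroup K)) : ¬ Loc p K := by
  intro hl
  have hL : IsLieTypeChar r K := Or.inl hK
  obtain ⟨F, _, _, hc, n, h2, h4, ⟨e⟩⟩ := hK
  have hpF : (p : F) ≠ 0 := by
    intro h
    rw [CharP.cast_eq_zero_iff F r] at h
    exact hpr ((Nat.prime_dvd_prime_iff_eq hr.out hp.out).1 h).symm
  let π := QuotientGroup.mk' (Subgroup.center (Matrix.SpecialLinearGroup (Fin n) F))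
  obtain ⟨X, Y, Z, hXY, hXZ, hYZ, hZp, hZ1⟩ := exists_pair_lift (p := p) π (QuotientGroup.mk'_surjective _)
    (na_congr e hna)
  by_cases hZ : Z ∈ Subgroup.center (Matrix.SpecialLinearGroup (Fin n) F)
  · obtain ⟨c, hcn, hcZ⟩ := Matrix.SpecialLinearGroup.mem_center_iff.1 hZ
    rw [Fintype.card_fin] at hcn
    have hn : NeZero n := ⟨by omega⟩
    have hc1 : c ≠ 1 := by
      rintro rfl
      apply hZ1
      apply Subtype.ext
      rw [← hcZ, map_one]
      rfl
    have hcp : c ^ p = 1 := by
      have h5 := congrArg Subtype.val hZp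
      rw [Matrix.SpecialLinearGroup.coe_pow, ← hcZ, ← map_pow] at h5
      have h6 := congrFun (congrFun h5 0) 0
      rw [Matrix.scalar_apply, Matrix.diagonal_apply_eq] at h6
      rw [h6]
      exact Matrix.one_apply_eq _
    have hco : orderOf c = p := orderOf_eq_prime hcp hc1
    have hpn : p ∣ n := by
      rw [← hco]
      exact orderOf_dvd_of_pow_eq_one hcn
    have hp3 : 3 ≤ p := by
      have := hp.out.two_le
      omega
    have hn3 : 3 ≤ n := hp3.trans (Nat.le_of_dvd (by omega) hpn)
    rcases Nat.eq_or_lt_of_le hn3 with h3 | hn4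
    · subst h3
      have h5 : p = 3 := (Nat.prime_dvd_prime_iff_eq hp.out Nat.prime_three).1 hpn
      subst h5
      refine H328.NLRank.not_rank_psl (F := F) (by exact_mod_cast hpF) (Or.inr rfl) ?_
      obtain ⟨A, h6, h7, h8⟩ := hrk
      refine ⟨A.map e.toMonoidHom, ⟨⟨?_⟩⟩, ?_, ?_⟩
      · rintro ⟨_, ⟨a, ha, rfl⟩⟩ ⟨_, ⟨b, hb, rfl⟩⟩
        have := congrArg (fun x : A => e (x : K)) (h6.is_comm.comm ⟨a, ha⟩ ⟨b, hb⟩)
        apply Subtype.ext
        change e a * e b = e b * e a
        rw [← map_mul, ← map_mul]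
        exact this
      · rintro _ ⟨a, ha, rfl⟩
        rw [← map_pow, h7 a ha, map_one]
      · rw [Nat.card_congr (A.equivMapOfInjective _ e.injective).symm.toEquiv]
        exact h8
    · obtain ⟨d, rfl⟩ : ∃ d, n = d + 2 := ⟨n - 2, by omega⟩
      have hc0 : c ≠ 0 := by
        rintro rfl
        rw [zero_pow hp.out.ne_zero] at hcp
        exact zero_ne_one hcp
      have hdet : (blk ((1 : F) • 1 : Matrix (Fin d) (Fin d) F) (Matrix.diagonal ![c, c⁻¹])).det = 1 := by
        rw [det_blk, one_smul, Matrix.det_one, one_mul, Matrix.det_diagonal, Fin.prod_univ_two]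
        exact mul_inv_cancel₀ hc0
      let W : Matrix.SpecialLinearGroup (Fin (d + 2)) F := ⟨blk ((1 : F) • 1) (Matrix.diagonal ![c, c⁻¹]), hdet⟩
      have hpow : ∀ k : ℕ, (W ^ k).1 = blk 1 (Matrix.diagonal ![c ^ k, c⁻¹ ^ k]) := by
        intro k
        induction k with
        | zero =>
          rw [pow_zero, pow_zero, pow_zero]
          change (1 : Matrix (Fin (d + 2)) (Fin (d + 2)) F) = _
          rw [← blk_one, ← Matrix.diagonal_one]
          congr 2
          funext i
          fin_cases i <;> rfl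
        | succ k ih =>
          rw [pow_succ]
          change (W ^ k).1 * blk ((1 : F) • 1) (Matrix.diagonal ![c, c⁻¹]) = _
          rw [ih, ← blk_mul, one_smul, one_mul, Matrix.diagonal_mul_diagonal]
          congr 2
          funext i
          fin_cases i
          · exact (pow_succ c k).symm
          · exact (pow_succ c⁻¹ k).symm
      have hWp : W ^ p = 1 := by
        apply Subtype.ext
        rw [hpow, hcp, inv_pow, hcp, inv_one]
        change _ = (1 : Matrix (Fin (d + 2)) (Fin (d + 2)) F)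
        rw [← blk_one, ← Matrix.diagonal_one]
        congr 2
        funext i
        fin_cases i <;> rfl
      have hWc : W ∉ Subgroup.center (Matrix.SpecialLinearGroup (Fin (d + 2)) F) := by
        intro h
        obtain ⟨b, -, hb⟩ := Matrix.SpecialLinearGroup.mem_center_iff.1 h
        have hd : NeZero d := ⟨by omega⟩
        have h5 := congrFun (congrFun hb (Fin.castAdd 2 0)) (Fin.castAdd 2 0)
        have h6 := congrFun (congrFun hb (Fin.natAdd d 0)) (Fin.natAdd d 0)
        change _ = blk ((1 : F) • 1) (Matrix.diagonal ![c, c⁻¹]) _ _ at h5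
        change _ = blk ((1 : F) • 1) (Matrix.diagonal ![c, c⁻¹]) _ _ at h6
        rw [blk_castAdd, Matrix.scalar_apply, Matrix.diagonal_apply_eq, one_smul, Matrix.one_apply_eq] at h5
        rw [blk_natAdd, Matrix.scalar_apply, Matrix.diagonal_apply_eq, Matrix.diagonal_apply_eq, h5] at h6
        exact hc1 h6.symm
      have hWo : orderOf (QuotientGroup.mk' (Subgroup.center (Matrix.SpecialLinearGroup (Fin (d + 2)) F)) W) = p := by
        apply orderOf_eq_prime
        · rw [← map_pow, hWp, map_one]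
        · intro h
          exact hWc ((QuotientGroup.eq_one_iff _).1 h)
      have h5 := ws_of_loc hpr hL hl e hWo
      have h6 : WS r ↥(centralizer ({W} : Set (Matrix.SpecialLinearGroup (Fin (d + 2)) F))) :=
        ws_lift (π := QuotientGroup.mk' (Subgroup.center (Matrix.SpecialLinearGroup (Fin (d + 2)) F)))
          (by rw [QuotientGroup.ker_mk']) h5
      refine not_ws_blk (r := r) (d := d) (k := 2) (by omega) (fun _ => ?_) (a := 1) (B := Matrix.diagonal ![c, c⁻¹]) rfl h6
      have h7 : orderOf (Units.mk0 c hc0) = p := by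
        rw [← hco, ← orderOf_units, Units.val_mk0]
      have h8 : orderOf (Units.mk0 c hc0) ∣ Nat.card Fˣ := orderOf_dvd_natCard _
      rw [h7, Nat.card_units] at h8
      have h9 : 0 < Nat.card F - 1 := by
        have : 1 < Nat.card F := Finite.one_lt_card
        omega
      have := Nat.le_of_dvd h9 h8
      omega
  · have hzo : orderOf (π Z) = p := by
      apply orderOf_eq_prime
      · rw [← map_pow, hZp, map_one]
      · intro h
        exact hZ ((QuotientGroup.eq_one_iff _).1 h)
    have h5 := ws_of_loc hpr hL hl e hzo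
    have h6 : WS r ↥(centralizer ({Z} : Set (Matrix.SpecialLinearGroup (Fin n) F))) :=
      ws_lift (π := π) (by rw [QuotientGroup.ker_mk']) h5
    refine Cfsg.Agent.H236.mat_odd (r := r) hp2 hpF (X := X.toGL) (Y := Y.toGL) (Z := Z.toGL) ?_ ?_ ?_ ?_ ?_ (ws_CM h6)
    · rw [← hXY, map_mul, map_mul, map_mul, map_inv, map_inv]
    · rw [← map_mul, hXZ, map_mul]
    · rw [← map_mul, hYZ, map_mul]
    · rw [← map_pow, hZp, map_one]
    · intro h
      exact hZ1 (Matrix.SpecialLinearGroup.toGL_injective (by rw [h, map_one]))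

end Cfsg.Agent.H250.LP
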