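import Cfsg.Agent.H236.LocSp
import Cfsg.Agent.H250.LP.Psl

/-!
# `PSp_2m(q)` is not of local characteristic `p`, `p` odd, `p ∤ q`, nonabelian Sylow subgroup (helper250)

Piece (X) of S3046.
-/

set_option autoImplicit false
set_option linter.unusedSectionVars false

namespace Cfsg.Agent.H250.LP

open Subgroup Cfsg Cfsg.Agent.BpLin Matrix Cfsg.Agent.H236 Cfsg.Agent.BpCl Cfsg.Agent.BpCl.Free
open Cfsg.Agent.ClassicalGeometry.SympBasic Cfsg.Agent.ClassicalGeometry.SympAutSemi
  Cfsg.Agent.ClassicalGeometry.SympGamma Cfsg.Agent.ClassicalGeometry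
open Cfsg.Agent.H238 (Loc)

universe u v

/-- **`PSp_2m(q)`.** -/
theorem not_loc_psp {K : Type u} [Group K] [Finite K] [IsSimpleGroup K] {p r : ℕ} [hp : Fact p.Prime]
    [hr : Fact r.Prime] (hp2 : p ≠ 2) (hpr : p ≠ r) (hK : IsPSpChar r K)
    (hna : ∀ S : Sylow p K, ¬ IsMulCommutative ↥(S : Subgroup K)) : ¬ Loc p K := by
  intro hl
  have hL : IsLieTypeChar r K := Or.inr (Or.inl hK)
  obtain ⟨F, _, _, hc, m, hm2, hm, ⟨e⟩⟩ := hK
  have hpF : (p : F) ≠ 0 := by
    intro h
    rw [CharP.cast_eq_zero_iff F r] at h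
    exact hpr ((Nat.prime_dvd_prime_iff_eq hr.out hp.out).1 h).symm
  by_cases hpq : p = 3 ∧ Nat.card F = 2
  · obtain ⟨rfl, hF⟩ := hpq
    have hm3 : 3 ≤ m := by
      by_contra hlt
      have h1 := hm (by omega)
      rw [← Nat.card_eq_fintype_card, hF] at h1
      omega
    obtain ⟨z, hz, h⟩ := LocSp.sp_three (r := r) (F := F) (m := m) hF hm3
    exact h (ws_of_loc hpr hL hl e hz)
  obtain ⟨X, Y, Z, hXY, hXZ, hYZ, hZp, hZ1⟩ := exists_pair_lift (p := p)
    (QuotientGroup.mk' (Subgroup.center (Matrix.symplecticGroup (Fin m) F))) (QuotientGroup.mk'_surjective _)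
    (na_congr e hna)
  have hZ : Z ∉ Subgroup.center (Matrix.symplecticGroup (Fin m) F) := by
    intro hZ
    obtain ⟨a, ha⟩ := (LieClassical.SympCenter.mem_center_iff m _).1 hZ
    let u : Fin m ⊕ Fin m → F := Pi.single (Sum.inl ⟨0, by omega⟩) 1
    let v : Fin m ⊕ Fin m → F := Pi.single (Sum.inr ⟨0, by omega⟩) 1
    have huv : sympForm m F v u = 1 := by
      change sympForm m F (Pi.single (Sum.inr ⟨0, by omega⟩) 1) (Pi.single (Sum.inl ⟨0, by omega⟩) 1) = 1
      rw [sympForm_single_inr_left, Pi.single_eq_same]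
    have hZu : ∀ w, spLin m F Z w = a • w := by
      intro w
      change (Z : Matrix (Fin m ⊕ Fin m) (Fin m ⊕ Fin m) F).mulVec w = _
      rw [ha, Matrix.smul_mulVec, Matrix.one_mulVec]
    have h1 : a * a = 1 := by
      have h2 : sympForm m F (spLin m F Z v) (spLin m F Z u) = sympForm m F v u := sympForm_rho Z v u
      rw [hZu, hZu, sympForm_smul_left, sympForm_smul_right, huv, mul_one] at h2
      exact h2
    have h2 : ∀ k : ℕ, ((Z ^ k : Matrix.symplecticGroup (Fin m) F) : Matrix (Fin m ⊕ Fin m) (Fin m ⊕ Fin m) F) =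
        a ^ k • 1 := by
      intro k
      induction k with
      | zero => rw [pow_zero, pow_zero, one_smul]; rfl
      | succ k ih =>
        rw [pow_succ]
        change (Z ^ k : Matrix.symplecticGroup (Fin m) F).1 * Z.1 = _
        rw [ih, ha, smul_mul_smul_comm, one_mul, pow_succ]
    have h3 : a ^ p = 1 := by
      have h4 := h2 p
      rw [hZp] at h4
      have h5 := congrFun (congrFun h4 (Sum.inl ⟨0, by omega⟩)) (Sum.inl ⟨0, by omega⟩)
      rw [Matrix.smul_apply, Matrix.one_apply_eq, smul_eq_mul, mul_one] at h5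
      rw [← h5]
      exact Matrix.one_apply_eq _
    obtain ⟨c, hc⟩ := hp.out.odd_of_ne_two hp2
    have h4 : a = 1 := by
      rw [hc, pow_succ, pow_mul, pow_two, h1, one_pow, one_mul] at h3
      exact h3
    apply hZ1
    have h5 := h2 1
    rw [pow_one, pow_one, h4, one_smul] at h5
    exact Subtype.ext h5
  have hzo : orderOf (QuotientGroup.mk' (Subgroup.center (Matrix.symplecticGroup (Fin m) F)) Z) = p := by
    apply orderOf_eq_prime
    · rw [← map_pow, hZp, map_one]
    · intro h
      exact hZ ((QuotientGroup.eq_one_iff _).1 h)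
  have h3 : WS r ↥(centralizer ({Z} : Set (Matrix.symplecticGroup (Fin m) F))) :=
    ws_lift (π := QuotientGroup.mk' (Subgroup.center (Matrix.symplecticGroup (Fin m) F)))
      (by rw [QuotientGroup.ker_mk']) (ws_of_loc hpr hL hl e hzo)
  have h4 := sp_odd (r := r) hp.out hp2 hpF (B := sympBilin m F) (fun v => sympForm_self v)
    (fun u hu => eq_zero_of_forall_sympForm_right hu) (X := spLin m F X) (Y := spLin m F Y) (g := spLin m F Z)
    (fun u v => sympForm_rho X u v) (fun u v => sympForm_rho Y u v) (fun u v => sympForm_rho Z u v)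
    (by rw [← hXY, map_mul, map_mul, map_mul, map_inv, map_inv])
    (fun v => LinearEquiv.congr_fun (show spLin m F X * spLin m F Z = spLin m F Z * spLin m F X by
      rw [← map_mul, hXZ, map_mul]) v)
    (fun v => LinearEquiv.congr_fun (show spLin m F Y * spLin m F Z = spLin m F Z * spLin m F Y by
      rw [← map_mul, hYZ, map_mul]) v)
    (by rw [← map_pow, hZp, map_one])
    (by
      intro h
      exact hZ1 (spLin_injective (by rw [h, map_one]))) (ws_spLin h3)
  exact hpq ⟨h4.1, h4.2.1⟩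

end Cfsg.Agent.H250.LP
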