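import Cfsg.Agent.S0822
import Cfsg.Agent.H250.LP.Psl

/-!
# `PSU_n(q)` is not of local characteristic `p`, `p` odd, `p ∤ q`, nonabelian Sylow subgroup, rank at least 3,
except `PSU₄(2)` for `p = 3` (helper250)

Piece (X) of S3046.
-/

set_option autoImplicit false
set_option linter.unusedSectionVars false

namespace Cfsg.Agent.H250.LP

open Subgroup Cfsg Cfsg.Agent.BpLin Matrix Cfsg.Agent.H236
open Cfsg.Agent.H238 (Loc)
open Cfsg.Agent.H674.SUTools Cfsg.Agent.H674.SUBlock Cfsg.Agent.LieClassical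

universe u v

section SU

variable {F : Type u} [Field F] [Fintype F] {d k q : ℕ}

theorem not_ws_blkSU {r : ℕ} [Fact r.Prime] (hF : Fintype.card F = q ^ 2) (hd : ¬ WS r ↥(SU d F q)) {a : F}
    {B : Matrix (Fin k) (Fin k) F} {Z : SU (d + k) F q} (hZ : cm Z = blk (a • 1) B) :
    ¬ WS r ↥(centralizer ({Z} : Set (SU (d + k) F q))) := by
  intro h
  have hc : ∀ x : SU d F q, ext hF k x ∈ centralizer ({Z} : Set (SU (d + k) F q)) := by
    intro x
    rw [mem_centralizer_singleton_iff]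
    apply cm_injective
    rw [map_mul, map_mul, cm_ext, hZ, ← blk_mul, ← blk_mul, one_mul, mul_one, mul_smul_comm, smul_mul_assoc,
      one_mul, mul_one]
  refine hd (h.of_injective ((ext hF k).codRestrict _ hc) ?_)
  intro x y hxy
  exact ext_injective hF (congrArg Subtype.val hxy)

/-- an element of `SU` of order `p` that is not central -/
theorem ws_lift_su {K : Type v} [Group K] [Finite K] [IsSimpleGroup K] {p r : ℕ} [Fact p.Prime] [hr : Fact r.Prime]
    (hpr : p ≠ r) (hK : IsLieTypeChar r K) (hl : Loc p K) {n : ℕ} (e : K ≃* PSU n F q) {Z : SU n F q} (hZp : Z ^ p = 1)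
    (hZ : Z ∉ Subgroup.center (SU n F q)) : WS r ↥(centralizer ({Z} : Set (SU n F q))) := by
  have hzo : orderOf (QuotientGroup.mk' (Subgroup.center (SU n F q)) Z) = p := by
    apply orderOf_eq_prime
    · rw [← map_pow, hZp, map_one]
    · intro h
      exact hZ ((QuotientGroup.eq_one_iff _).1 h)
  exact ws_lift (π := QuotientGroup.mk' (Subgroup.center (SU n F q))) (by rw [QuotientGroup.ker_mk'])
    (ws_of_loc hpr hK hl e hzo)

/-- `diag(1, …, 1, c, c⁻¹)` -/
theorem exists_diag {p : ℕ} (hF : Fintype.card F = q ^ 2) (hd : 1 ≤ d) {c : F} (hcp : c ^ p = 1)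
    (hcq : c ^ (q + 1) = 1) (hc1 : c ≠ 1) :
    ∃ Z : SU (d + 2) F q, cm Z = blk ((1 : F) • 1) (Matrix.diagonal ![c, c⁻¹]) ∧ Z ^ p = 1 ∧
      Z ∉ Subgroup.center (SU (d + 2) F q) := by
  have hc0 : c ≠ 0 := by
    rintro rfl
    rw [zero_pow (Nat.succ_ne_zero q)] at hcq
    exact zero_ne_one hcq
  let B : Matrix (Fin 2) (Fin 2) F := Matrix.diagonal ![c, c⁻¹]
  have hBB : ∀ k : ℕ, B ^ k = Matrix.diagonal ![c ^ k, c⁻¹ ^ k] := by
    intro k
    rw [Matrix.diagonal_pow]
    congr 1
    funext i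
    fin_cases i <;> rfl
  have hdet : B.det = 1 := by
    rw [Matrix.det_diagonal, Fin.prod_univ_two]
    exact mul_inv_cancel₀ hc0
  have hiso : Bᵀ * B.map (GUOrder.frob hF) = 1 := by
    rw [Matrix.diagonal_transpose, Matrix.diagonal_map (map_zero _), Matrix.diagonal_mul_diagonal, ← Matrix.diagonal_one]
    congr 1
    funext i
    fin_cases i
    · change c * c ^ q = 1
      rw [← pow_succ', hcq]
    · change c⁻¹ * c⁻¹ ^ q = 1
      rw [← pow_succ', inv_pow, hcq, inv_one]
  let Z : SU (d + 2) F q := mkSU hF (blk (1 : Matrix (Fin d) (Fin d) F) B) (by rw [det_blk, hdet, Matrix.det_one, one_mul])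
    (isom_blk hF (isom_one hF) hiso)
  have hcmZ : cm Z = blk (1 : Matrix (Fin d) (Fin d) F) B := cm_mkSU hF _ _ _
  have hpow : ∀ k : ℕ, cm Z ^ k = blk (1 : Matrix (Fin d) (Fin d) F) (B ^ k) := by
    intro k
    induction k with
    | zero => rw [pow_zero, pow_zero, blk_one]
    | succ k ih => rw [pow_succ, ih, hcmZ, ← blk_mul, one_mul, ← pow_succ]
  refine ⟨Z, by rw [one_smul]; exact hcmZ, ?_, ?_⟩
  · rw [← cm_eq_one_iff, map_pow, hpow, hBB, hcp, inv_pow, hcp, inv_one, ← blk_one, ← Matrix.diagonal_one]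
    congr 2
    funext i
    fin_cases i <;> rfl
  · intro hc
    obtain ⟨b, hcn, hcq', h1⟩ := (SUBasic.mem_center_SU_iff hF (by omega) _).1 hc
    have hd' : NeZero d := ⟨by omega⟩
    have h3 : blk (1 : Matrix (Fin d) (Fin d) F) B = Matrix.diagonal (fun _ => b) := by
      rw [← hcmZ, h1]
      rfl
    have h4 := congrFun (congrFun h3 (Fin.castAdd 2 0)) (Fin.castAdd 2 0)
    rw [blk_castAdd, Matrix.one_apply_eq, Matrix.diagonal_apply_eq] at h4
    have h5 := congrFun (congrFun h3 (Fin.natAdd d 0)) (Fin.natAdd d 0)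
    rw [blk_natAdd, Matrix.diagonal_apply_eq, ← h4] at h5
    exact hc1 h5

/-- `diag(w, w, w, w, w²)` in `SU₅(2)` -/
theorem exists_five (hF : Fintype.card F = 2 ^ 2) :
    ∃ (Z : SU (4 + 1) F 2) (w : F), cm Z = blk (w • 1) (w ^ 2 • 1) ∧ Z ^ 3 = 1 ∧ Z ∉ Subgroup.center (SU (4 + 1) F 2) := by
  obtain ⟨w, hw, h2⟩ := exists_omega (F := F) (by rw [Nat.card_eq_fintype_card, hF]; norm_num)
  have hw3 : w ^ 3 = 1 := by linear_combination (w - 1) * hw
  have hw1 : w ≠ 1 := by
    rintro rfl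
    have : (1 : F) = 0 := by linear_combination hw - h2
    exact one_ne_zero this
  have hsc : ∀ (m : ℕ) (a : F), a ^ 3 = 1 → (a • (1 : Matrix (Fin m) (Fin m) F))ᵀ * (a • (1 : Matrix (Fin m) (Fin m) F)).map
      (GUOrder.frob hF) = 1 := by
    intro m a ha
    rw [Matrix.smul_one_eq_diagonal, Matrix.diagonal_transpose, Matrix.diagonal_map (map_zero _),
      Matrix.diagonal_mul_diagonal, ← Matrix.diagonal_one]
    congr 1
    funext i
    change a * a ^ 2 = 1
    rw [← pow_succ', ha]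
  have hdet : (blk (w • (1 : Matrix (Fin 4) (Fin 4) F)) (w ^ 2 • (1 : Matrix (Fin 1) (Fin 1) F))).det = 1 := by
    rw [det_blk, Matrix.det_smul, Matrix.det_smul, Matrix.det_one, Matrix.det_one, Fintype.card_fin, Fintype.card_fin]
    linear_combination (w ^ 3 + 1) * hw3
  let Z : SU (4 + 1) F 2 := mkSU hF (blk (w • 1) (w ^ 2 • 1)) hdet
    (isom_blk hF (hsc 4 w hw3) (hsc 1 (w ^ 2) (by linear_combination (w ^ 3 + 1) * hw3)))
  have hcmZ : cm Z = blk (w • (1 : Matrix (Fin 4) (Fin 4) F)) (w ^ 2 • (1 : Matrix (Fin 1) (Fin 1) F)) :=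
    cm_mkSU hF _ _ _
  refine ⟨Z, w, hcmZ, ?_, ?_⟩
  · rw [← cm_eq_one_iff, map_pow, hcmZ, pow_succ, pow_two, ← blk_mul, ← blk_mul, ← blk_one]
    congr 1
    · rw [smul_mul_smul_comm, smul_mul_smul_comm, one_mul, one_mul, show w * w * w = 1 by linear_combination hw3, one_smul]
    · rw [smul_mul_smul_comm, smul_mul_smul_comm, one_mul, one_mul,
        show w ^ 2 * w ^ 2 * w ^ 2 = 1 by linear_combination (w ^ 3 + 1) * hw3, one_smul]
  · intro hc
    obtain ⟨b, hcn, hcq', h1⟩ := (SUBasic.mem_center_SU_iff hF (by omega) _).1 hc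
    have h3 : blk (w • (1 : Matrix (Fin 4) (Fin 4) F)) (w ^ 2 • (1 : Matrix (Fin 1) (Fin 1) F)) =
        Matrix.diagonal (fun _ => b) := by
      rw [← hcmZ, h1]
      rfl
    have h4 := congrFun (congrFun h3 (Fin.castAdd 1 0)) (Fin.castAdd 1 0)
    rw [blk_castAdd, Matrix.diagonal_apply_eq, Matrix.smul_apply, Matrix.one_apply_eq, smul_eq_mul, mul_one] at h4
    have h5 := congrFun (congrFun h3 (Fin.natAdd 4 0)) (Fin.natAdd 4 0)
    rw [blk_natAdd, Matrix.diagonal_apply_eq, Matrix.smul_apply, Matrix.one_apply_eq, smul_eq_mul, mul_one, ← h4] at h5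
    have hw0 : w ≠ 0 := by
      rintro rfl
      rw [zero_pow three_ne_zero] at hw3
      exact zero_ne_one hw3
    apply hw1
    have h6 : w * (w - 1) = 0 := by linear_combination h5
    rcases mul_eq_zero.1 h6 with h | h
    · exact absurd h hw0
    · exact sub_eq_zero.1 h

end SU

/-- **`PSU_n(q)`.** -/
theorem not_loc_psu {K : Type u} [Group K] [Finite K] [IsSimpleGroup K] {p r : ℕ} [hp : Fact p.Prime]
    [hr : Fact r.Prime] (hp2 : p ≠ 2) (hpr : p ≠ r) (hK : IsPSUChar r K) (hnl : ¬ IsChevSimple p K)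
    (hrk : PRankAtLeast p 3 K) (hna : ∀ S : Sylow p K, ¬ IsMulCommutative ↥(S : Subgroup K)) : ¬ Loc p K := by
  intro hl
  have hL : IsLieTypeChar r K := Or.inr (Or.inr (Or.inl hK))
  obtain ⟨F, _, _, hc, n, q, hF, hn3, hn, ⟨e⟩⟩ := hK
  have hpF : (p : F) ≠ 0 := by
    intro h
    rw [CharP.cast_eq_zero_iff F r] at h
    exact hpr ((Nat.prime_dvd_prime_iff_eq hr.out hp.out).1 h).symm
  have hq : 2 ≤ q := by
    have h4 : 1 < Fintype.card F := Fintype.one_lt_card
    rw [hF] at h4
    by_contra hlt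
    interval_cases q
    · omega
    · omega
  by_cases hpq : p = 3 ∧ q = 2
  · obtain ⟨rfl, rfl⟩ := hpq
    obtain ⟨w, hw, h2⟩ := exists_omega (F := F) (by rw [Nat.card_eq_fintype_card, hF]; norm_num)
    have hw3 : w ^ 3 = 1 := by linear_combination (w - 1) * hw
    have hw1 : w ≠ 1 := by
      rintro rfl
      have : (1 : F) = 0 := by linear_combination hw - h2
      exact one_ne_zero this
    rcases (show n = 3 ∨ n = 4 ∨ n = 5 ∨ 6 ≤ n by omega) with rfl | rfl | rfl | h6
    · exact hn ⟨rfl, rfl⟩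
    · apply hnl
      obtain ⟨f⟩ := Cfsg.Agent.S0822.result (F := F) (K := ZMod 3) (by rw [hF]; norm_num) (by simp [ZMod.card])
      exact Or.inl (Or.inr (Or.inl ⟨ZMod 3, inferInstance, inferInstance, inferInstance, 2, le_rfl,
        fun _ => by simp [ZMod.card], ⟨e.trans f⟩⟩))
    · obtain ⟨Z, w, hcm, hZp, hZ⟩ := exists_five hF
      exact not_ws_blkSU (r := r) hF (not_ws_su hF (by norm_num) (by omega)) hcm (ws_lift_su hpr hL hl e hZp hZ)
    · obtain ⟨d, rfl⟩ : ∃ d, n = d + 2 := ⟨n - 2, by omega⟩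
      obtain ⟨Z, hcm, hZp, hZ⟩ := exists_diag (d := d) (p := 3) hF (by omega) hw3 hw3 hw1
      exact not_ws_blkSU (r := r) hF (not_ws_su hF (by omega) (by omega)) hcm (ws_lift_su hpr hL hl e hZp hZ)
  · obtain ⟨X, Y, Z, hXY, hXZ, hYZ, hZp, hZ1⟩ := exists_pair_lift (p := p)
      (QuotientGroup.mk' (Subgroup.center (SU n F q))) (QuotientGroup.mk'_surjective _) (na_congr e hna)
    by_cases hZ : Z ∈ Subgroup.center (SU n F q)
    · obtain ⟨c, hcn, hcq, hcZ⟩ := (SUBasic.mem_center_SU_iff hF hn3 _).1 hZ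
      have hcm : ∀ k : ℕ, cm Z ^ k = Matrix.diagonal (fun _ => c ^ k) := by
        intro k
        have h1 : cm Z = Matrix.diagonal (fun _ => c) := by
          rw [hcZ]
          rfl
        rw [h1, Matrix.diagonal_pow]
        rfl
      have hn0 : NeZero n := ⟨by omega⟩
      have hc1 : c ≠ 1 := by
        rintro rfl
        apply hZ1
        rw [← cm_eq_one_iff, ← pow_one (cm Z), hcm, one_pow, ← Matrix.diagonal_one]
      have hcp : c ^ p = 1 := by
        have h5 := congrArg cm hZp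
        rw [map_pow, hcm, map_one] at h5
        have h6 := congrFun (congrFun h5 0) 0
        rw [Matrix.diagonal_apply_eq, Matrix.one_apply_eq] at h6
        exact h6
      have hco : orderOf c = p := orderOf_eq_prime hcp hc1
      have hpn : p ∣ n := by
        rw [← hco]
        exact orderOf_dvd_of_pow_eq_one hcn
      have hpq' : p ∣ q + 1 := by
        rw [← hco]
        exact orderOf_dvd_of_pow_eq_one hcq
      have hp3 : 3 ≤ p := by
        have := hp.out.two_le
        omega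
      rcases Nat.eq_or_lt_of_le hn3 with h3 | hn4
      · subst h3
        have h5 : p = 3 := (Nat.prime_dvd_prime_iff_eq hp.out Nat.prime_three).1 hpn
        subst h5
        refine H328.NLRank.not_rank_psu3 (F := F) (by exact_mod_cast hpF) hF ?_
        obtain ⟨A, h6, h7, h8⟩ := hrk
        refine ⟨A.map e.toMonoidHom, ⟨⟨?_⟩⟩, ?_, ?_⟩
        · rintro ⟨_, ⟨a, ha, rfl⟩⟩ ⟨_, ⟨b, hb, rfl⟩⟩
          have := congrArg (fun x : A => e (x : K)) (h6.is_comm.comm ⟨a, ha⟩ ⟨b, hb⟩)
          apply Subtype.ext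
          change e a * e b = e b * e a
          rw [← map_mul, ← map_mul]
          exact this
        · rintro _ ⟨a, ha, rfl⟩
          rw [← map_pow, h7 a ha, map_one]
        · rw [Nat.card_congr (A.equivMapOfInjective _ e.injective).symm.toEquiv]
          exact h8
      · obtain ⟨d, rfl⟩ : ∃ d, n = d + 2 := ⟨n - 2, by omega⟩
        obtain ⟨Z', hcm', hZp', hZ'⟩ := exists_diag (d := d) (p := p) hF (by omega) hcp hcq hc1
        have hd3 : 3 ≤ d := by
          by_contra hlt
          obtain rfl : d = 2 := by omega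
          have h5 : p ∣ 2 ^ 2 := hpn
          exact hp2 ((Nat.prime_dvd_prime_iff_eq hp.out Nat.prime_two).1 (hp.out.dvd_of_dvd_pow h5))
        refine not_ws_blkSU (r := r) hF (not_ws_su hF hd3 ?_) hcm' (ws_lift_su hpr hL hl e hZp' hZ')
        rintro ⟨-, rfl⟩
        exact hpq ⟨(Nat.prime_dvd_prime_iff_eq hp.out Nat.prime_three).1 hpq', rfl⟩
    · obtain ⟨s, b, b', hb, hs, hU⟩ := exists_inv (r := r) hF Z (ws_lift_su hpr hL hl e hZp hZ)
      have h5 := herm_odd (r := r) hp2 hpF (by rw [Nat.card_eq_fintype_card, hF]; nlinarith)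
        (X := (X : Matrix.SpecialLinearGroup (Fin n) F).toGL) (Y := (Y : Matrix.SpecialLinearGroup (Fin n) F).toGL)
        (Z := (Z : Matrix.SpecialLinearGroup (Fin n) F).toGL) (by
          rw [← hXY]
          rw [Subgroup.coe_mul, Subgroup.coe_mul, Subgroup.coe_mul, Subgroup.coe_inv, Subgroup.coe_inv,
            map_mul, map_mul, map_mul, map_inv, map_inv])
        (by rw [← map_mul, ← map_mul, ← Subgroup.coe_mul, hXZ, Subgroup.coe_mul])
        (by rw [← map_mul, ← map_mul, ← Subgroup.coe_mul, hYZ, Subgroup.coe_mul])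
        (by rw [← map_pow, ← SubgroupClass.coe_pow, hZp, OneMemClass.coe_one, map_one])
        (by
          intro h
          apply hZ1
          have h4 : (Z : Matrix.SpecialLinearGroup (Fin n) F) = 1 :=
            Matrix.SpecialLinearGroup.toGL_injective (by rw [h, map_one])
          exact Subtype.ext h4) s hb hs hU
      refine hpq ⟨h5.1, ?_⟩
      have h6 := h5.2.1
      rw [Nat.card_eq_fintype_card, hF] at h6
      nlinarith

end Cfsg.Agent.H250.LP
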